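import Groth.Prelude.Def_LogNCD
import Mathlib.AlgebraicGeometry.Morphisms.Etale
import Mathlib.AlgebraicGeometry.AffineSpace
import Mathlib.RingTheory.TensorProduct.Quotient
import Mathlib.RingTheory.Flat.TorsionFree
import Mathlib.RingTheory.RingHom.Flat
import Mathlib.Algebra.MvPolynomial.Monad

/-!
Equations of the components of a relative normal crossing divisor.
-/

set_option autoImplicit false
set_option linter.style.haveILetI false
universe u
open CategoryTheory AlgebraicGeometry TopologicalSpace Opposite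
open scoped TensorProduct

namespace Groth.Agent.H25.DivLift.Chart

theorem ideal_eq_top_of_disjoint {X : Scheme.{u}} (I : X.IdealSheafData) (U : X.affineOpens)
    (h : Disjoint (U.1 : Set X) (I.support : Set X)) : I.ideal U = ⊤ := by
  by_contra hne
  obtain ⟨P, hP, hle⟩ := Ideal.exists_le_maximal _ hne
  let p : PrimeSpectrum Γ(X, U.1) := ⟨P, hP.isPrime⟩
  have hp : p ∈ PrimeSpectrum.zeroLocus (I.ideal U : Set Γ(X, U.1)) := hle
  have hmem : U.2.fromSpec p ∈ X.zeroLocus (U := U.1) (I.ideal U : Set Γ(X, U.1)) ∩ (U.1 : Set X) := by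
    rw [← U.2.fromSpec_image_zeroLocus]; exact ⟨p, hp, rfl⟩
  exact Set.disjoint_left.mp h hmem.2
    ((Scheme.IdealSheafData.mem_supportSet_iff_of_mem hmem.2).mpr hmem.1)

/-- A coordinate hyperplane is flat over the base. -/
theorem flat_quotient_X {R σ : Type u} [CommRing R] (e : σ) :
    Module.Flat R (MvPolynomial σ R ⧸ Ideal.span ({MvPolynomial.X e} : Set (MvPolynomial σ R))) := by
  classical
  let I := Ideal.span ({MvPolynomial.X e} : Set (MvPolynomial σ R))
  let ψ : MvPolynomial σ R →ₐ[R] MvPolynomial σ R :=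
    MvPolynomial.aeval fun i => if i = e then 0 else MvPolynomial.X i
  let θ : (MvPolynomial σ R ⧸ I) →ₐ[R] MvPolynomial σ R := Ideal.Quotient.liftₐ I ψ fun a ha => by
    obtain ⟨c, rfl⟩ := Ideal.mem_span_singleton.mp ha
    simp [ψ]
  refine Module.Flat.of_retract θ.toLinearMap (Ideal.Quotient.mkₐ R I).toLinearMap ?_
  have h : (Ideal.Quotient.mkₐ R I).comp ψ = Ideal.Quotient.mkₐ R I := by
    refine MvPolynomial.algHom_ext fun i => ?_
    by_cases h : i = e
    · subst h
      simp [ψ, I]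
    · simp [ψ, h]
  refine LinearMap.ext fun a => ?_
  obtain ⟨a, rfl⟩ := Ideal.Quotient.mk_surjective a
  exact AlgHom.congr_fun h a

/-- Along an étale chart a coordinate is regular with flat quotient. -/
theorem regular_quotient {R σ B : Type u} [CommRing R] [CommRing B] (ψ : MvPolynomial σ R →+* B)
    (hψ : ψ.Etale) (e : σ) :
    ψ (MvPolynomial.X e) ∈ nonZeroDivisors B ∧
      ((Ideal.Quotient.mk (Ideal.span {ψ (MvPolynomial.X e)})).comp (ψ.comp MvPolynomial.C)).Flat := by
  letI := ψ.toAlgebra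
  haveI : Algebra.Etale (MvPolynomial σ R) B := hψ
  constructor
  · have hX : (MvPolynomial.X e : MvPolynomial σ R) ∈ nonZeroDivisors (MvPolynomial σ R) :=
      mem_nonZeroDivisors_iff_right.2 fun q hq => MvPolynomial.ext _ _ fun m => by
        rw [← MvPolynomial.coeff_mul_X m e q, hq, MvPolynomial.coeff_zero, MvPolynomial.coeff_zero]
    have hreg : IsSMulRegular B (MvPolynomial.X e : MvPolynomial σ R) :=
      Module.Flat.isSMulRegular_of_nonZeroDivisors hX
    rw [mem_nonZeroDivisors_iff_right]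
    intro b hb
    apply hreg
    show (MvPolynomial.X e : MvPolynomial σ R) • b = (MvPolynomial.X e : MvPolynomial σ R) • 0
    rw [smul_zero, Algebra.smul_def, mul_comm]
    exact hb
  let I : Ideal (MvPolynomial σ R) := Ideal.span {MvPolynomial.X e}
  have hI : I.map (algebraMap (MvPolynomial σ R) B) = Ideal.span {ψ (MvPolynomial.X e)} := by
    rw [Ideal.map_span, Set.image_singleton]; rfl
  rw [← hI]
  haveI : Algebra.Etale (MvPolynomial σ R ⧸ I) (B ⧸ I.map (algebraMap (MvPolynomial σ R) B)) :=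
    Algebra.Etale.of_equiv (A := (MvPolynomial σ R ⧸ I) ⊗[MvPolynomial σ R] B)
      (Algebra.TensorProduct.quotIdealMapEquivQuotTensor B I).symm
  have h1 : (algebraMap R (MvPolynomial σ R ⧸ I)).Flat :=
    RingHom.flat_algebraMap_iff.2 (flat_quotient_X e)
  have h2 : (algebraMap (MvPolynomial σ R ⧸ I) (B ⧸ I.map (algebraMap (MvPolynomial σ R) B))).Flat :=
    RingHom.flat_algebraMap_iff.2 inferInstance
  exact h1.comp h2

variable {X S : Scheme.{u}}

/-- The ring map of an étale chart. -/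
theorem exists_etale_hom (f : X ⟶ S) {σ : Type u} (W : X.Opens) (v : σ → Γ(W, ⊤))
    [Etale (AffineSpace.homOfVector (W.ι ≫ f) v)] (U : X.affineOpens) (hU : U.1 ≤ W) (V : S.affineOpens)
    (e : U.1 ≤ f ⁻¹ᵁ V.1) :
    ∃ ψ : MvPolynomial σ Γ(S, V.1) →+* Γ(X, U.1), ψ.Etale ∧
      ψ.comp MvPolynomial.C = (f.appLE V.1 U.1 e).hom ∧
      ∀ i, ψ (MvPolynomial.X i) = LogNCD.sectOn W hU (v i) := by
  haveI : IsAffine (U.1 : Scheme.{u}) := U.2
  let f₁ : (U.1 : Scheme.{u}) ⟶ Spec Γ(S, V.1) := U.2.isoSpec.hom ≫ Spec.map (f.appLE V.1 U.1 e)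
  have hf₁ : f₁ ≫ V.2.fromSpec = U.1.ι ≫ f := by
    rw [Category.assoc, IsAffineOpen.SpecMap_appLE_fromSpec f V.2 U.2 e, ← U.2.isoSpec_inv_ι,
      Category.assoc, Iso.hom_inv_id_assoc]
  let v' : σ → Γ((U.1 : Scheme.{u}), ⊤) := fun i => (X.homOfLE hU).appTop (v i)
  let g₀ : (U.1 : Scheme.{u}) ⟶ 𝔸(σ; Spec Γ(S, V.1)) := AffineSpace.homOfVector f₁ v'
  haveI := V.2.isOpenImmersion_fromSpec
  haveI : IsOpenImmersion (AffineSpace.map σ V.2.fromSpec) :=
    MorphismProperty.of_isPullback (P := @IsOpenImmersion) (AffineSpace.isPullback_map V.2.fromSpec).flip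
      inferInstance
  haveI : Etale (g₀ ≫ AffineSpace.map σ V.2.fromSpec) := by
    have : g₀ ≫ AffineSpace.map σ V.2.fromSpec =
        X.homOfLE hU ≫ AffineSpace.homOfVector (W.ι ≫ f) v := by
      refine AffineSpace.hom_ext ?_ fun i => ?_
      · simp only [g₀, Category.assoc, AffineSpace.map_over, AffineSpace.homOfVector_over_assoc,
          AffineSpace.homOfVector_over, hf₁, Scheme.homOfLE_ι_assoc]
      · simp only [g₀, Scheme.Hom.comp_appTop, CommRingCat.comp_apply, AffineSpace.map_appTop_coord,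
          AffineSpace.homOfVector_appTop_coord, v']
    rw [this]
    infer_instance
  haveI : Etale g₀ := Etale.of_comp g₀ (AffineSpace.map σ V.2.fromSpec)
  let g : (U.1 : Scheme.{u}) ⟶ Spec (CommRingCat.of (MvPolynomial σ Γ(S, V.1))) :=
    g₀ ≫ (AffineSpace.SpecIso σ Γ(S, V.1)).hom
  obtain ⟨φ, hφ⟩ := Spec.map_surjective (U.2.isoSpec.inv ≫ g)
  have hφe : Etale (Spec.map φ) := by rw [hφ]; infer_instance
  refine ⟨φ.hom, (HasRingHomProperty.Spec_iff (P := @Etale)).1 hφe, ?_, fun i => ?_⟩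
  · have h : Spec.map (CommRingCat.ofHom MvPolynomial.C ≫ φ) = Spec.map (f.appLE V.1 U.1 e) := by
      rw [Spec.map_comp, hφ, ← AffineSpace.SpecIso_inv_over]
      simp only [g, g₀, Category.assoc, Iso.hom_inv_id_assoc, f₁]
      erw [AffineSpace.homOfVector_over, Iso.inv_hom_id_assoc]
    exact congrArg CommRingCat.Hom.hom (Spec.map_injective h)
  · have h2 : (AffineSpace.SpecIso σ Γ(S, V.1)).hom.appTop
        ((Scheme.ΓSpecIso (CommRingCat.of (MvPolynomial σ Γ(S, V.1)))).inv (MvPolynomial.X i)) =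
        AffineSpace.coord (Spec Γ(S, V.1)) i := by
      rw [← AffineSpace.SpecIso_inv_appTop_coord (R := Γ(S, V.1)) i, ← CommRingCat.comp_apply,
        ← Scheme.Hom.comp_appTop, Iso.hom_inv_id, Scheme.Hom.id_appTop]
      rfl
    have hg : g = U.2.isoSpec.hom ≫ Spec.map φ := by rw [hφ, Iso.hom_inv_id_assoc]
    have hval : g.appTop ((Scheme.ΓSpecIso (CommRingCat.of (MvPolynomial σ Γ(S, V.1)))).inv (MvPolynomial.X i)) =
        v' i := by
      simp only [g, Scheme.Hom.comp_appTop, CommRingCat.comp_apply]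
      rw [h2]
      exact AffineSpace.homOfVector_appTop_coord _ _ _
    have hnat : φ (MvPolynomial.X i) = U.1.topIso.hom (g.appTop
        ((Scheme.ΓSpecIso (CommRingCat.of (MvPolynomial σ Γ(S, V.1)))).inv (MvPolynomial.X i))) := by
      rw [hg, Scheme.Hom.comp_appTop, U.2.isoSpec_hom_appTop]
      simp only [CommRingCat.comp_apply]
      erw [← CommRingCat.comp_apply ((Spec.map φ).appTop) ((Scheme.ΓSpecIso _).hom),
        Scheme.ΓSpecIso_naturality φ, CommRingCat.comp_apply]
      rw [← CommRingCat.comp_apply (Scheme.ΓSpecIso (CommRingCat.of (MvPolynomial σ Γ(S, V.1)))).inv,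
        Iso.inv_hom_id_assoc, ← CommRingCat.comp_apply, Iso.inv_hom_id]
      rfl
    rw [hnat, hval]
    change ((X.homOfLE hU).appTop ≫ U.1.topIso.hom) (v i) =
      (W.topIso.hom ≫ X.presheaf.map (homOfLE hU).op) (v i)
    congr 2
    rw [Scheme.Hom.appTop, Scheme.homOfLE_app]
    change X.presheaf.map _ ≫ X.presheaf.map _ = X.presheaf.map _ ≫ X.presheaf.map _
    erw [← Functor.map_comp, ← Functor.map_comp]
    exact congrArg _ (Subsingleton.elim _ _)

/-- Near every point a component is cut out by one regular equation with flat quotient. -/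
theorem exists_eqn (f : X ⟶ S) {r : ℕ} (D : Fin r → X.IdealSheafData) (hD : LogNCD.IsNCD D f)
    (x : X) (j : Fin r) :
    ∃ O : X.Opens, x ∈ O ∧ ∀ (U : X.affineOpens), U.1 ≤ O → ∀ (V : S.affineOpens) (e : U.1 ≤ f ⁻¹ᵁ V.1),
      ∃ a : Γ(X, U.1), (D j).ideal U = Ideal.span {a} ∧ a ∈ nonZeroDivisors Γ(X, U.1) ∧
        ((Ideal.Quotient.mk (Ideal.span {a})).comp (f.appLE V.1 U.1 e).hom).Flat := by
  by_cases hx : x ∈ (D j).support
  · obtain ⟨W, hxW, n, v, e₀, he, het, heq, -⟩ := hD x ⟨⟨j, hx⟩⟩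
    refine ⟨W, hxW, fun U hU V e => ?_⟩
    haveI : Etale (AffineSpace.homOfVector (W.ι ≫ f) v) := het
    obtain ⟨ψ, hψ, hC, hX⟩ := exists_etale_hom f W v U hU V e
    obtain ⟨h1, h2⟩ := regular_quotient ψ hψ (ULift.up (e₀ ⟨j, hx⟩))
    refine ⟨_, heq ⟨j, hx⟩ U hU, ?_, ?_⟩
    · rw [← hX]; exact h1
    · rw [← hX, ← hC]; exact h2
  · refine ⟨(D j).support.compl, hx, fun U hU V e => ⟨1, ?_, Submonoid.one_mem _, ?_⟩⟩
    · rw [Ideal.span_singleton_one]
      exact ideal_eq_top_of_disjoint _ U (Set.disjoint_left.2 fun y hy => hU hy)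
    · have : Subsingleton (Γ(X, U.1) ⧸ Ideal.span ({1} : Set Γ(X, U.1))) := by
        rw [Ideal.Quotient.subsingleton_iff, Ideal.span_singleton_one]
      algebraize [(Ideal.Quotient.mk (Ideal.span ({1} : Set Γ(X, U.1)))).comp (f.appLE V.1 U.1 e).hom]
      exact RingHom.flat_algebraMap_iff.2 (Module.Flat.of_free)

end Groth.Agent.H25.DivLift.Chart
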