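import Groth.Agent.H25.DivLift.Main
import Groth.Agent.H95.TopInv.Glue
import Groth.Agent.Lib.Ideal.Comap
import Groth.Agent.Lib.SectionChart.Main
import Groth.Agent.Lib.WittU.Geom
import Mathlib.AlgebraicGeometry.Morphisms.Flat
import Mathlib.AlgebraicGeometry.Morphisms.Smooth

/-!
Local existence of liftings of a scheme with a normal crossing divisor.
-/

set_option autoImplicit false
set_option linter.style.haveILetI false
universe u
open CategoryTheory CategoryTheory.Limits AlgebraicGeometry TopologicalSpace Opposite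
open Groth.Agent.Lib.Ideal Groth.Agent.H25.QuotBlow.Main

namespace Groth.Agent.H25.DivLift.Exist

variable {σ : Type u}

/-- The closed subscheme of an ideal. -/
noncomputable def closedOf {R : Type u} [CommRing R] (I : Ideal R) :
    (Spec (CommRingCat.of R)).IdealSheafData :=
  (Spec.map (CommRingCat.ofHom (Ideal.Quotient.mk I))).ker

/-- A coordinate hyperplane. -/
noncomputable def hyperplane (S : Scheme.{u}) (e : σ) : 𝔸(σ; S).IdealSheafData :=
  (closedOf (Ideal.span ({MvPolynomial.X e} : Set (MvPolynomial σ (ULift.{u} ℤ))))).comap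
      (AffineSpace.toSpecMvPoly σ S)

theorem comap_hyperplane {X S : Scheme.{u}} (h : X ⟶ S) (e : σ) :
    (hyperplane S e).comap (AffineSpace.map σ h) = hyperplane X e := by
  rw [hyperplane, hyperplane, ← Scheme.IdealSheafData.comap_comp, AffineSpace.map_toSpecMvPoly]

theorem ideal_comap_hyperplane {X S : Scheme.{u}} (π : X ⟶ 𝔸(σ; S)) (e : σ) (U : X.affineOpens) :
    ((hyperplane S e).comap π).ideal U =
      Ideal.span {X.presheaf.map (homOfLE le_top).op (π.appTop (AffineSpace.coord S e))} := by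
  rw [hyperplane, ← Scheme.IdealSheafData.comap_comp, closedOf, ideal_comap_ker, Ideal.map_span, Set.image_singleton]
  have h : homU (π ≫ AffineSpace.toSpecMvPoly σ S) U.1 (MvPolynomial.X e) =
      X.presheaf.map (homOfLE le_top).op (π.appTop (AffineSpace.coord S e)) := by
    show (π ≫ AffineSpace.toSpecMvPoly σ S).appLE ⊤ U.1 le_top ((Scheme.ΓSpecIso _).inv (MvPolynomial.X e)) = _
    have hc : AffineSpace.coord S e = (AffineSpace.toSpecMvPoly σ S).appTop
        ((Scheme.ΓSpecIso (CommRingCat.of (MvPolynomial σ (ULift.{u} ℤ)))).inv (MvPolynomial.X e)) := rfl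
    rw [hc, ← CommRingCat.comp_apply ((AffineSpace.toSpecMvPoly σ S).appTop), ← Scheme.Hom.comp_appTop]
    rfl
  rw [h]

theorem flat_hyperplane {X S : Scheme.{u}} (π : X ⟶ 𝔸(σ; S)) [Etale π] (e : σ) :
    Flat (((hyperplane S e).comap π).subschemeι ≫ π ≫ 𝔸(σ; S) ↘ S) := by
  let v : σ → Γ((⊤ : X.Opens).toScheme, ⊤) := fun i => (⊤ : X.Opens).ι.appTop (π.appTop (AffineSpace.coord S i))
  let g := π ≫ 𝔸(σ; S) ↘ S
  haveI : Etale (AffineSpace.homOfVector ((⊤ : X.Opens).ι ≫ g) v) := by
    have : AffineSpace.homOfVector ((⊤ : X.Opens).ι ≫ g) v = (⊤ : X.Opens).ι ≫ π := by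
      refine AffineSpace.hom_ext ?_ fun i => ?_
      · simp only [AffineSpace.homOfVector_over, Category.assoc, g]
      · simp only [AffineSpace.homOfVector_appTop_coord, Scheme.Hom.comp_appTop, CommRingCat.comp_apply, v]
    rw [this]; infer_instance
  refine (HasRingHomProperty.iff_exists_appLE (P := @Flat)
    (RingHom.Flat.stableUnderComposition.stableUnderCompositionWithLocalizationAway
      RingHom.Flat.holdsForLocalizationAway).1).2 fun z => ?_
  obtain ⟨V, U, -, hxU, -, -, he⟩ := Comap.exists_affine_le_preimage g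
    (((hyperplane S e).comap π).subschemeι z) (show _ ∈ (⊤ : X.Opens) from trivial)
    (show g (((hyperplane S e).comap π).subschemeι z) ∈ (⊤ : S.Opens) from trivial)
  refine ⟨V, ⟨_, U.2.preimage _⟩, hxU, fun y hy => he hy, ?_⟩
  refine (Lib.RelDiv.Cartier.appLE_subscheme g _ RingHom.Flat.respectsIso V.1 U he).2 ?_
  obtain ⟨ψ, hψ, hC, hX⟩ := Chart.exists_etale_hom g (⊤ : X.Opens) v U le_top V he
  have h := (Chart.regular_quotient ψ hψ e).2
  rw [hC, hX] at h
  have he' : LogNCD.sectOn (⊤ : X.Opens) (le_top : U.1 ≤ ⊤) (v e) =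
      X.presheaf.map (homOfLE le_top).op (π.appTop (AffineSpace.coord S e)) := by
    show X.presheaf.map _ ((⊤ : X.Opens).topIso.hom ((⊤ : X.Opens).ι.appTop _)) = _
    rw [← CommRingCat.comp_apply ((⊤ : X.Opens).ι.appTop)]
    congr 1
    erw [Scheme.Opens.ι_appTop, Scheme.Opens.topIso_hom, ← Functor.map_comp]
    exact congrArg (fun q => (X.presheaf.map q) (π.appTop (AffineSpace.coord S e))) (Subsingleton.elim _ (𝟙 _)) |>.trans (by simp)
  rw [ideal_comap_hyperplane, ← he']
  exact h

theorem comap_ι_eq {X : Scheme.{u}} (W : X.Opens) (I : X.IdealSheafData) (U : (W : Scheme.{u}).affineOpens) :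
    ∃ h : W.ι ''ᵁ U.1 ≤ W, (I.comap W.ι).ideal U =
      Ideal.map (W.ι.appLE (W.ι ''ᵁ U.1) U.1 (W.ι.preimage_image_eq U.1).ge).hom
        (I.ideal ⟨W.ι ''ᵁ U.1, U.2.image_of_isOpenImmersion W.ι⟩) ∧
      ∀ s : Γ(W, ⊤), W.ι.appLE (W.ι ''ᵁ U.1) U.1 (W.ι.preimage_image_eq U.1).ge (LogNCD.sectOn W h s) =
        (W : Scheme.{u}).presheaf.map (homOfLE le_top).op s := by
  have h : W.ι ''ᵁ U.1 ≤ W := by
    rintro _ ⟨y, -, rfl⟩; exact y.2
  refine ⟨h, Comap.ideal_comap W.ι I ⟨_, U.2.image_of_isOpenImmersion W.ι⟩ U _, fun s => ?_⟩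
  rw [LogNCD.sectOn_apply, Scheme.Opens.ι_appLE, Scheme.Opens.topIso_hom]
  rw [Scheme.Opens.toScheme_presheaf_map]
  erw [← CommRingCat.comp_apply, ← CommRingCat.comp_apply]
  erw [← Functor.map_comp, ← Functor.map_comp]
  exact congrArg (fun q => (X.presheaf.map q) s) (Subsingleton.elim _ _)

theorem flat_subschemeι_top {X S : Scheme.{u}} (g : X ⟶ S) :
    Flat ((⊤ : X.IdealSheafData).subschemeι ≫ g) := by
  refine (HasRingHomProperty.iff_exists_appLE (P := @Flat)
    (RingHom.Flat.stableUnderComposition.stableUnderCompositionWithLocalizationAway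
      RingHom.Flat.holdsForLocalizationAway).1).2 fun z => ?_
  have hz : (⊤ : X.IdealSheafData).subschemeι z ∈ Set.range (⊤ : X.IdealSheafData).subschemeι := ⟨z, rfl⟩
  rw [Scheme.IdealSheafData.range_subschemeι] at hz
  simp at hz

/-- A smooth morphism has an étale chart near every point, inside a given open. -/
theorem exists_chart {X S : Scheme.{u}} (f : X ⟶ S) [Smooth f] (x : X) {O : X.Opens} (hx : x ∈ O) :
    ∃ (W : X.Opens) (_ : x ∈ W) (_ : W ≤ O) (n : ℕ) (v : ULift.{u} (Fin n) → Γ(W, ⊤)),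
      Etale (AffineSpace.homOfVector (W.ι ≫ f) v) := by
  obtain ⟨V, hV, U₀, hU₀, hxU, e, hs⟩ := Smooth.exists_isStandardSmooth f x
  obtain ⟨n, g₀, hg₀, hg₀e⟩ := hs.exists_etale_mvPolynomial
  obtain ⟨c, hc, hxc⟩ := hU₀.exists_basicOpen_le (⟨x, hx⟩ : O) hxU
  let W := X.basicOpen c
  have eW : W ≤ f ⁻¹ᵁ V := (X.basicOpen_le c).trans e
  let res := X.presheaf.map (homOfLE (X.basicOpen_le c)).op
  have hres : res.hom.Etale := by
    letI := res.hom.toAlgebra
    haveI : IsLocalization.Away c Γ(X, X.basicOpen c) := hU₀.isLocalization_basicOpen c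
    exact RingHom.etale_algebraMap.mpr (Algebra.Etale.of_isLocalizationAway c)
  refine ⟨W, hxc, hc, n, fun i => W.topIso.inv (res (g₀ (MvPolynomial.X i.down))), ?_⟩
  haveI : IsAffine (V : Scheme.{u}) := hV
  haveI : IsAffine (W : Scheme.{u}) := hU₀.basicOpen c
  have h : Etale (AffineSpace.homOfVector (f.resLE V W eW)
      (fun i : ULift.{u} (Fin n) => W.topIso.inv (res (g₀ (MvPolynomial.X i.down))))) := by
    apply Groth.Agent.Lib.SectionChart.Main.etale_homOfVector
    let ren := MvPolynomial.renameEquiv Γ(V, ⊤) (Equiv.ulift.{u} (α := Fin n))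
    let bc := MvPolynomial.mapEquiv (Fin n) V.topIso.commRingCatIsoToRingEquiv
    have key : MvPolynomial.eval₂Hom (f.resLE V W eW).appTop.hom
        (fun i : ULift.{u} (Fin n) => W.topIso.inv (res (g₀ (MvPolynomial.X i.down)))) =
      W.topIso.inv.hom.comp (res.hom.comp (g₀.comp (bc.toRingHom.comp ren.toRingEquiv.toRingHom))) := by
      refine MvPolynomial.ringHom_ext (fun a => ?_) fun i => ?_
      · rw [MvPolynomial.eval₂Hom_C, Scheme.Hom.appTop, Scheme.Hom.resLE_app_top]
        simp only [RingHom.comp_apply, ren, bc]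
        show W.topIso.inv (f.appLE V W eW (V.topIso.hom a)) = W.topIso.inv (res (g₀ _))
        congr 1
        rw [← Scheme.Hom.appLE_map f e (homOfLE (X.basicOpen_le c)).op, CommRingCat.comp_apply,
          show (f.appLE V U₀ e) (V.topIso.hom a) = g₀ (MvPolynomial.C (V.topIso.hom a)) from
            (RingHom.congr_fun hg₀ (V.topIso.hom a)).symm]
        simp [res]
      · simp [ren, bc]
    rw [key]
    exact RingHom.Etale.stableUnderComposition _ _ (RingHom.Etale.stableUnderComposition _ _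
      (RingHom.Etale.stableUnderComposition _ _
        (RingHom.Etale.stableUnderComposition _ _ (RingHom.Etale.of_bijective ren.toRingEquiv.bijective)
          (RingHom.Etale.of_bijective bc.bijective)) hg₀e) hres)
      (RingHom.Etale.of_bijective (ConcreteCategory.bijective_of_isIso W.topIso.inv))
  haveI : IsOpenImmersion (AffineSpace.map (ULift.{u} (Fin n)) V.ι) :=
    MorphismProperty.of_isPullback (P := @IsOpenImmersion) (AffineSpace.isPullback_map V.ι).flip inferInstance
  have h2 : AffineSpace.homOfVector (W.ι ≫ f) (fun i : ULift.{u} (Fin n) => W.topIso.inv (res (g₀ (MvPolynomial.X i.down)))) =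
      AffineSpace.homOfVector (f.resLE V W eW) (fun i : ULift.{u} (Fin n) => W.topIso.inv (res (g₀ (MvPolynomial.X i.down)))) ≫
        AffineSpace.map _ V.ι := by
    refine AffineSpace.hom_ext ?_ fun i => ?_
    · simp only [Category.assoc, AffineSpace.map_over, AffineSpace.homOfVector_over_assoc,
        AffineSpace.homOfVector_over, Scheme.Hom.resLE_comp_ι]
    · simp only [Scheme.Hom.comp_appTop, CommRingCat.comp_apply, AffineSpace.map_appTop_coord,
        AffineSpace.homOfVector_appTop_coord]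
  rw [h2]
  infer_instance

/-- Lifting along one étale chart of the pair. -/
theorem exists_lift_chart {Sl S X : Scheme.{u}} (iS : S ⟶ Sl) [IsClosedImmersion iS] [Surjective iS]
    (f : X ⟶ S) {r : ℕ} (D : Fin r → X.IdealSheafData) (W : X.Opens) (v : σ → Γ(W, ⊤))
    [Etale (AffineSpace.homOfVector (W.ι ≫ f) v)]
    (hD : ∀ m, (∃ e : σ, ∀ (U : X.affineOpens) (h : U.1 ≤ W),
        (D m).ideal U = Ideal.span {LogNCD.sectOn W h (v e)}) ∨
      ∀ (U : X.affineOpens), U.1 ≤ W → (D m).ideal U = ⊤) :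
    ∃ (Ul : Scheme.{u}) (g : Ul ⟶ Sl) (j : (W : Scheme.{u}) ⟶ Ul),
      Flat g ∧ IsPullback j (W.ι ≫ f) g iS ∧
        ∃ Dl : Fin r → Ul.IdealSheafData, ∀ m, (Dl m).comap j = (D m).comap W.ι ∧
          Flat ((Dl m).subschemeι ≫ g) := by
  classical
  let π₀ : (W : Scheme.{u}) ⟶ 𝔸(σ; S) := AffineSpace.homOfVector (W.ι ≫ f) v
  let i := AffineSpace.map σ iS
  haveI : IsClosedImmersion i :=
    MorphismProperty.of_isPullback (P := @IsClosedImmersion) (AffineSpace.isPullback_map iS).flip ‹_›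
  haveI : Surjective i :=
    MorphismProperty.of_isPullback (P := @Surjective) (AffineSpace.isPullback_map iS).flip ‹_›
  obtain ⟨Ul, π, jW, hπ, hpb⟩ := Groth.Agent.H95.TopInv.exists_lift i π₀
  let g := π ≫ 𝔸(σ; Sl) ↘ Sl
  have hg : Flat g := by
    haveI := Groth.Agent.Lib.WittU.Geom.flat_affineSpace σ Sl
    infer_instance
  have hpb' : IsPullback jW (W.ι ≫ f) g iS := by
    have h := hpb.paste_vert (AffineSpace.isPullback_map iS)
    rwa [AffineSpace.homOfVector_over] at h
  have h1 : ∀ e, ((hyperplane Sl e).comap π).comap jW = (hyperplane S e).comap π₀ := fun e => by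
    rw [← Scheme.IdealSheafData.comap_comp, hpb.w, Scheme.IdealSheafData.comap_comp, comap_hyperplane]
  suffices key : ∀ m, ∃ I : Ul.IdealSheafData, I.comap jW = (D m).comap W.ι ∧ Flat (I.subschemeι ≫ g) by
    choose Dl hDl using key
    exact ⟨Ul, g, jW, hg, hpb', Dl, hDl⟩
  intro m
  by_cases h : ∃ e : σ, ∀ (U : X.affineOpens) (h : U.1 ≤ W),
      (D m).ideal U = Ideal.span {LogNCD.sectOn W h (v e)}
  · have hfl := @flat_hyperplane σ Ul Sl π hπ h.choose
    refine ⟨(hyperplane Sl h.choose).comap π, ?_, hfl⟩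
    rw [h1]
    refine Scheme.IdealSheafData.ext (funext fun U => ?_)
    obtain ⟨hle, he, hs⟩ := comap_ι_eq W (D m) U
    rw [he, ideal_comap_hyperplane, AffineSpace.homOfVector_appTop_coord,
      h.choose_spec _ hle, Ideal.map_span, Set.image_singleton]
    exact congrArg (fun t => Ideal.span {t}) (hs _).symm
  · refine ⟨⊤, ?_, flat_subschemeι_top g⟩
    rw [Scheme.IdealSheafData.comap_top]
    refine Scheme.IdealSheafData.ext (funext fun U => ?_)
    obtain ⟨hle, he, -⟩ := comap_ι_eq W (D m) U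
    rw [he, ((hD m).resolve_left h) _ hle, Ideal.map_top]
    rfl

theorem exists_lift {Sl S X : Scheme.{u}} (iS : S ⟶ Sl) [IsClosedImmersion iS] [Surjective iS]
    (f : X ⟶ S) [Smooth f] {r : ℕ} (D : Fin r → X.IdealSheafData) (hD : LogNCD.IsNCD D f) (x : X) :
    ∃ U : X.Opens, x ∈ U ∧ ∃ (Ul : Scheme.{u}) (g : Ul ⟶ Sl) (j : (U : Scheme.{u}) ⟶ Ul),
      Flat g ∧ IsPullback j (U.ι ≫ f) g iS ∧
        ∃ Dl : Fin r → Ul.IdealSheafData, ∀ m, (Dl m).comap j = (D m).comap U.ι ∧
          Flat ((Dl m).subschemeι ≫ g) := by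
  classical
  by_cases hx : Nonempty (LogNCD.Through D x)
  · obtain ⟨W, hxW, n, v, e, -, het, heq, hoff⟩ := hD x hx
    haveI := het
    refine ⟨W, hxW, exists_lift_chart iS f D W v fun m => ?_⟩
    by_cases hm : x ∈ (D m).support
    · exact Or.inl ⟨_, fun U h => heq ⟨m, hm⟩ U h⟩
    · exact Or.inr (hoff m hm)
  · have hO : x ∈ (⨅ m, (D m).support.compl : X.Opens) := by
      have : ∀ m, x ∈ (D m).support.compl := fun m hm => hx ⟨⟨m, hm⟩⟩
      simpa [← SetLike.mem_coe, TopologicalSpace.Opens.coe_iInf] using this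
    obtain ⟨W, hxW, hW, n, v, het⟩ := exists_chart f x hO
    haveI := het
    refine ⟨W, hxW, exists_lift_chart iS f D W v fun m => Or.inr fun U hU => ?_⟩
    exact Chart.ideal_eq_top_of_disjoint _ U (Set.disjoint_left.2 fun y hy =>
      (iInf_le (fun m => (D m).support.compl) m) (hW (hU hy)))

end Groth.Agent.H25.DivLift.Exist
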