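import Groth.Agent.Lib.ClSub.Cartier
import Groth.Prelude.Def_BlowUp2

/-!
An invertible ideal module comes from an effective Cartier ideal.
-/

set_option autoImplicit false
set_option linter.style.haveILetI false
universe u
open CategoryTheory AlgebraicGeometry TopologicalSpace Opposite

namespace Groth.Agent.H25.DivLift.Invert

open Groth.Agent.Lib.ClSub

theorem isEffCartierIdeal {X : Scheme.{u}} {I : X.IdealSheafData}
    (h : PicF.IsInvertible (_root_.ClSub.idealMod I)) : BlowUp.IsEffCartierIdeal I := by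
  intro x
  obtain ⟨U, hxU, ⟨e⟩⟩ := h x
  obtain ⟨W, hW, hxW, hWU⟩ := exists_isAffineOpen_mem_and_subset (X := (U : Scheme.{u}))
    (x := (⟨x, hxU⟩ : U)) (U := ⊤) trivial
  let W₀ : X.affineOpens := ⟨U.ι ''ᵁ W, hW.image_of_isOpenImmersion U.ι⟩
  let L := _root_.ClSub.idealMod I
  let m : Γ(L, W₀.1) := e.inv.app W (1 : Γ((U : Scheme.{u}), W))
  let ι := (_root_.ClSub.idealModι I).app W₀.1
  let f : Γ(X, W₀.1) := ι m
  have hsmul : ∀ r : Γ(X, W₀.1), (r • m : Γ(L, W₀.1)) = e.inv.app W (r : Γ((U : Scheme.{u}), W)) := by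
    intro r₀
    let r : Γ((U : Scheme.{u}), W) := r₀
    let one : Γ((U : Scheme.{u}), W) := 1
    have h1 := Scheme.Modules.Hom.app_smul e.inv r (one : Γ(Coh.structureModule (U : Scheme.{u}), W))
    have h2 : r • (one : Γ(Coh.structureModule (U : Scheme.{u}), W)) = r := mul_one _
    show (r₀ • m : Γ(L, W₀.1)) = e.inv.app W r
    refine Eq.trans ?_ (((congrArg (e.inv.app W) h2).symm.trans h1).symm)
    change (r₀ • m : Γ(L, W₀.1)) = SMul.smul ((U.ι.appIso W).inv r : Γ(X, U.ι ''ᵁ W)) m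
    rw [Scheme.Opens.ι_appIso]
    rfl
  have hι : ∀ r : Γ(X, W₀.1), ι (r • m) = r * f := fun r =>
    Scheme.Modules.Hom.app_smul (_root_.ClSub.idealModι I) r m
  have hid₁ : ∀ z : Γ(Coh.structureModule (U : Scheme.{u}), W), e.hom.app W (e.inv.app W z) = z := fun z => by
    rw [← CategoryTheory.ConcreteCategory.comp_apply, ← Scheme.Modules.Hom.comp_app, Iso.inv_hom_id]
    rfl
  have hid₂ : ∀ z : Γ((_root_.ClSub.idealMod I).restrict U.ι, W), e.inv.app W (e.hom.app W z) = z := fun z => by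
    rw [← CategoryTheory.ConcreteCategory.comp_apply, ← Scheme.Modules.Hom.comp_app, Iso.hom_inv_id]
    rfl
  refine ⟨W₀, ⟨⟨x, hxU⟩, hxW, rfl⟩, f, ?_, le_antisymm (fun s hs => ?_) ?_⟩
  · rw [mem_nonZeroDivisors_iff_right]
    intro r hr
    have h0 : r • m = 0 := Sections.idealModι_app_injective I W₀.1 (by
      rw [map_zero]; exact (hι r).trans hr)
    rw [hsmul] at h0
    have := congrArg (e.hom.app W) h0
    exact (hid₁ r).symm.trans (this.trans (map_zero _))
  · obtain ⟨y, hy⟩ := (Sections.mem_range_idealModι_app_affine_iff I W₀ s).2 hs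
    refine Ideal.mem_span_singleton'.2 ⟨(e.hom.app W y : Γ(X, W₀.1)), ?_⟩
    refine Eq.trans (hι _).symm (Eq.trans ?_ hy)
    exact congrArg ι ((hsmul _).trans (hid₂ y))
  · rw [Ideal.span_singleton_le_iff_mem]
    exact (Sections.mem_range_idealModι_app_affine_iff I W₀ f).1 ⟨m, rfl⟩

end Groth.Agent.H25.DivLift.Invert
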