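import Groth.Agent.Lib.ArtinFun.SqZeroTensor
import Mathlib.RingTheory.Flat.EquationalCriterion
import Mathlib.RingTheory.RingHom.Flat
import Mathlib.RingTheory.TensorProduct.Quotient
import Mathlib.Algebra.GroupWithZero.NonZeroDivisors

/-!
Lifting a principal ideal along a square-zero reduction by one element.
-/

set_option autoImplicit false
set_option linter.style.haveILetI false
universe u

open TensorProduct

namespace Groth.Agent.H25.DivLift.Lift

/-- In a flat module the kernel of `q` is the image of `q` if this is so in the ring. -/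
theorem exists_eq_smul_of_smul_eq_zero {Λ : Type u} [CommRing Λ] {q : Λ}
    (hq : ∀ a, q * a = 0 → ∃ b, a = q * b) {M : Type u} [AddCommGroup M] [Module Λ M] [Module.Flat Λ M]
    {x : M} (hx : q • x = 0) : ∃ y, x = q • y := by
  obtain ⟨k, a, y, hxy, ha⟩ := Module.Flat.isTrivialRelation_of_sum_smul_eq_zero
    (ι := Fin 1) (f := fun _ => q) (x := fun _ => x) (by simpa using hx)
  choose b hb using fun j => hq (a 0 j) (by simpa using ha j)
  refine ⟨∑ j, b j • y j, ?_⟩
  refine (hxy 0).trans ?_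
  rw [Finset.smul_sum]
  exact Finset.sum_congr rfl fun j _ => by rw [hb j, mul_smul]

variable {A B : Type u} [CommRing A] [CommRing B] {p : A} (π : A →+* B)

/-- A lift of a regular equation is regular. -/
theorem mem_nonZeroDivisors (hπ : RingHom.ker π = Ideal.span {p})
    (hker : ∀ a, p * a = 0 → a ∈ Ideal.span {p}) (hp2 : p * p = 0) {d : A}
    (hd : π d ∈ nonZeroDivisors B) : d ∈ nonZeroDivisors A := by
  have hsplit : ∀ a, π (a * d) = 0 → ∃ b, a = b * p := fun a ha => by
    rw [map_mul] at ha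
    have h1 : a ∈ RingHom.ker π := RingHom.mem_ker.2 ((mem_nonZeroDivisors_iff_right.1 hd) _ ha)
    rw [hπ, Ideal.mem_span_singleton'] at h1
    obtain ⟨b, hb⟩ := h1
    exact ⟨b, hb.symm⟩
  rw [mem_nonZeroDivisors_iff_right]
  intro a ha
  obtain ⟨b, rfl⟩ := hsplit a (by rw [ha, map_zero])
  have h2 : b * d ∈ RingHom.ker π := by
    rw [hπ]
    exact hker _ (by rw [← ha]; ring)
  obtain ⟨c, rfl⟩ := hsplit b (RingHom.mem_ker.1 h2)
  rw [mul_assoc, hp2, mul_zero]

/-- An ideal with flat quotient lifting a regular principal ideal is regular principal. -/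
theorem exists_span_eq (hπ : RingHom.ker π = Ideal.span {p}) (hπs : Function.Surjective π)
    (hker : ∀ a, p * a = 0 → a ∈ Ideal.span {p}) (hp2 : p * p = 0) (J : Ideal A)
    (hJ : ∀ a, p * a ∈ J → ∃ j ∈ J, ∃ b, a = j + p * b) {d₀ : B}
    (hd₀ : d₀ ∈ nonZeroDivisors B) (he : J.map π = Ideal.span {d₀}) :
    ∃ d, d ∈ nonZeroDivisors A ∧ J = Ideal.span {d} := by
  obtain ⟨d, hdJ, rfl⟩ := (Ideal.mem_map_iff_of_surjective π hπs).1
    (he ▸ Ideal.mem_span_singleton_self d₀)
  refine ⟨d, mem_nonZeroDivisors π hπ hker hp2 hd₀,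
    le_antisymm (fun x hx => ?_) ((Ideal.span_singleton_le_iff_mem _).2 hdJ)⟩
  have key : ∀ x ∈ J, ∃ c, ∃ j ∈ J, x = c * d + p * j := by
    intro x hx
    have h1 := Ideal.mem_map_of_mem π hx
    rw [he, Ideal.mem_span_singleton'] at h1
    obtain ⟨c, hc⟩ := h1
    obtain ⟨c, rfl⟩ := hπs c
    have h2 : x - c * d ∈ Ideal.span {p} := by
      rw [← hπ, RingHom.mem_ker, map_sub, map_mul, hc, sub_self]
    obtain ⟨a, ha⟩ := Ideal.mem_span_singleton'.1 h2
    have hmem : x - c * d ∈ J := J.sub_mem hx (J.mul_mem_left _ hdJ)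
    obtain ⟨j, hj, b, rfl⟩ := hJ a (by rw [mul_comm, ha]; exact hmem)
    exact ⟨c, j, hj, by linear_combination b * hp2 - ha⟩
  obtain ⟨c, j, hj, rfl⟩ := key x hx
  obtain ⟨c', j', -, rfl⟩ := key j hj
  exact Ideal.mem_span_singleton'.2 ⟨c + p * c', by linear_combination (-j') * hp2⟩

/-- Modulo a lift of a regular equation the `p`-torsion is divisible by `p`. -/
theorem exists_eq_add_of_mul_mem (hπ : RingHom.ker π = Ideal.span {p})
    (hker : ∀ a, p * a = 0 → a ∈ Ideal.span {p}) {d : A} (hd : π d ∈ nonZeroDivisors B)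
    {a : A} (ha : p * a ∈ Ideal.span {d}) : ∃ c b, a = c * d + p * b := by
  obtain ⟨b₀, hb₀⟩ := Ideal.mem_span_singleton'.1 ha
  have hp : π p = 0 := RingHom.mem_ker.1 (hπ.ge (Ideal.mem_span_singleton_self p))
  have h1 : b₀ ∈ RingHom.ker π := by
    refine RingHom.mem_ker.2 ((mem_nonZeroDivisors_iff_right.1 hd) _ ?_)
    rw [← map_mul, hb₀, map_mul, hp, zero_mul]
  rw [hπ, Ideal.mem_span_singleton'] at h1
  obtain ⟨b', rfl⟩ := h1
  obtain ⟨e, he⟩ := Ideal.mem_span_singleton'.1 (hker (a - b' * d) (by rw [mul_sub, ← hb₀]; ring))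
  exact ⟨b', e, by rw [mul_comm p e, he]; ring⟩

/-- The quotient by a lift of a regular equation is flat. -/
theorem flat_quotient {R R' : Type u} [CommRing R] [CommRing R'] {q : R} (hq2 : q * q = 0)
    (ρ : R →+* R') (hρ : Function.Surjective ρ) (hρk : RingHom.ker ρ = Ideal.span {q})
    (f : R →+* A) (hfq : f q = p) (f' : R' →+* B) (hcomm : π.comp f = f'.comp ρ)
    (hπs : Function.Surjective π) (hπ : RingHom.ker π = Ideal.span {p})
    (hker : ∀ a, p * a = 0 → a ∈ Ideal.span {p})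
    {d : A} (hd : π d ∈ nonZeroDivisors B)
    (hfl : ((Ideal.Quotient.mk (Ideal.span {π d})).comp f').Flat) :
    ((Ideal.Quotient.mk (Ideal.span {d})).comp f).Flat := by
  letI : Algebra R A := f.toAlgebra
  have hp : π p = 0 := RingHom.mem_ker.1 (hπ.ge (Ideal.mem_span_singleton_self p))
  let I : Ideal R := Ideal.span {q}
  have hI : I ^ 2 = ⊥ := by
    rw [Ideal.span_singleton_pow, Ideal.span_singleton_eq_bot, pow_two, hq2]
  let M := A ⧸ Ideal.span {d}
  have hmk : algebraMap R M q = Ideal.Quotient.mk (Ideal.span {d}) p := by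
    rw [← hfq]; rfl
  -- the reduction of `M`
  let J : Ideal M := I.map (algebraMap R M)
  let θ : M →+* B ⧸ Ideal.span {π d} := Ideal.quotientMap _ π <| by
    rw [Ideal.span_singleton_le_iff_mem, Ideal.mem_comap]
    exact Ideal.mem_span_singleton_self _
  have hθ : ∀ a, θ (Ideal.Quotient.mk _ a) = Ideal.Quotient.mk _ (π a) := fun a =>
    Ideal.quotientMap_mk
  have hθs : Function.Surjective θ := fun y => by
    obtain ⟨b, rfl⟩ := Ideal.Quotient.mk_surjective y
    obtain ⟨a, rfl⟩ := hπs b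
    exact ⟨Ideal.Quotient.mk _ a, hθ a⟩
  have hJ : RingHom.ker θ = J := by
    apply le_antisymm
    · intro m hm
      obtain ⟨a, rfl⟩ := Ideal.Quotient.mk_surjective m
      rw [RingHom.mem_ker, hθ, Ideal.Quotient.eq_zero_iff_mem, Ideal.mem_span_singleton'] at hm
      obtain ⟨c, hc⟩ := hm
      obtain ⟨c, rfl⟩ := hπs c
      obtain ⟨e, he⟩ := Ideal.mem_span_singleton'.1 (hπ.le (show a - c * d ∈ RingHom.ker π by
        rw [RingHom.mem_ker, map_sub, map_mul, hc, sub_self]))
      rw [show a = e * p + c * d by rw [he]; ring, map_add, map_mul, map_mul,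
        show Ideal.Quotient.mk (Ideal.span {d}) d = 0 from
          Ideal.Quotient.eq_zero_iff_mem.2 (Ideal.mem_span_singleton_self d), mul_zero, add_zero, ← hmk]
      exact J.mul_mem_left _ (Ideal.mem_map_of_mem _ (Ideal.mem_span_singleton_self q))
    · rw [Ideal.map_le_iff_le_comap, Ideal.span_singleton_le_iff_mem, Ideal.mem_comap, RingHom.mem_ker,
        hmk, hθ, hp, map_zero]
  let e₂ : (M ⧸ J) ≃+* B ⧸ Ideal.span {π d} :=
    (Ideal.quotEquivOfEq hJ.symm).trans (RingHom.quotientKerEquivOfSurjective hθs)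
  let e₁ : (R ⧸ I) ≃+* R' :=
    (Ideal.quotEquivOfEq hρk.symm).trans (RingHom.quotientKerEquivOfSurjective hρ)
  have hψ : (algebraMap (R ⧸ I) (M ⧸ J)) = e₂.symm.toRingHom.comp
      (((Ideal.Quotient.mk (Ideal.span {π d})).comp f').comp e₁.toRingHom) := by
    refine Ideal.Quotient.ringHom_ext (RingHom.ext fun r => e₂.injective ?_)
    simp only [RingHom.comp_apply, RingEquiv.toRingHom_eq_coe, RingHom.coe_coe, RingEquiv.apply_symm_apply]
    show θ (Ideal.Quotient.mk _ (f r)) = Ideal.Quotient.mk _ (f' (ρ r))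
    rw [hθ, ← RingHom.comp_apply π f, hcomm, RingHom.comp_apply]
  haveI : Module.Flat (R ⧸ I) (M ⧸ J) := by
    rw [← RingHom.flat_algebraMap_iff, hψ]
    exact ((RingHom.Flat.of_bijective e₁.bijective).comp hfl).comp
      (RingHom.Flat.of_bijective e₂.symm.bijective)
  haveI : Module.Flat (R ⧸ I) ((R ⧸ I) ⊗[R] M) :=
    Module.Flat.of_linearEquiv (Algebra.TensorProduct.quotIdealMapEquivQuotTensor M I).toLinearEquiv.symm
  show (algebraMap R M).Flat
  rw [RingHom.flat_algebraMap_iff]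
  refine Lib.ArtinFun.flat_of_nilpotent_of_injective I hI ((injective_iff_map_eq_zero _).2 fun z hz => ?_)
  have hrep : ∀ z : M ⊗[R] I, ∃ m : M, z = m ⊗ₜ[R] (⟨q, Ideal.mem_span_singleton_self q⟩ : I) := by
    intro z
    induction z using TensorProduct.induction_on with
    | zero => exact ⟨0, (zero_tmul _ _).symm⟩
    | add a b ha hb =>
      obtain ⟨x, rfl⟩ := ha
      obtain ⟨y, rfl⟩ := hb
      exact ⟨x + y, (add_tmul _ _ _).symm⟩
    | tmul m i =>
      obtain ⟨c, hc⟩ := Ideal.mem_span_singleton'.1 i.2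
      refine ⟨c • m, ?_⟩
      rw [smul_tmul]
      exact congrArg _ (Subtype.ext hc.symm)
  obtain ⟨m, rfl⟩ := hrep z
  have h0 := congrArg (TensorProduct.rid R M) hz
  rw [LinearMap.lTensor_tmul, map_zero, TensorProduct.rid_tmul] at h0
  obtain ⟨a, rfl⟩ := Ideal.Quotient.mk_surjective m
  replace h0 : Ideal.Quotient.mk (Ideal.span {d}) (p * a) = 0 := by
    rw [map_mul, ← hmk, ← Algebra.smul_def]
    exact h0
  obtain ⟨c, b, rfl⟩ := exists_eq_add_of_mul_mem π hπ hker hd (Ideal.Quotient.eq_zero_iff_mem.1 h0)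
  have hm : Ideal.Quotient.mk (Ideal.span {d}) (c * d + p * b) = q • Ideal.Quotient.mk (Ideal.span {d}) b := by
    rw [map_add, map_mul, map_mul, show Ideal.Quotient.mk (Ideal.span {d}) d = 0 from
      Ideal.Quotient.eq_zero_iff_mem.2 (Ideal.mem_span_singleton_self d), mul_zero, zero_add,
      Algebra.smul_def, hmk]
  rw [hm, smul_tmul]
  rw [show (q • (⟨q, Ideal.mem_span_singleton_self q⟩ : I)) = 0 from Subtype.ext hq2, tmul_zero]

end Groth.Agent.H25.DivLift.Lift
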