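import Groth.Agent.H25.DivLift.Lift
import Groth.Agent.H25.DivLift.Chart
import Groth.Agent.H25.DivLift.Invert
import Groth.Agent.H25.QuotBlow.Main
import Groth.Agent.Lib.RelDiv.Cartier
import Groth.Agent.Lib.BlowUpExists.Charts
import Groth.Agent.Lib.ClSub.Cartier

/-!
Liftings of a component of a normal crossing divisor to a first order thickening.
-/

set_option autoImplicit false
set_option linter.style.haveILetI false
universe u
open CategoryTheory CategoryTheory.Limits AlgebraicGeometry TopologicalSpace Opposite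
open Groth.Agent.Lib.Ideal Groth.Agent.H25.QuotBlow.Main

namespace Groth.Agent.H25.DivLift.Main

section Divisor

variable {X S : Scheme.{u}} (f : X ⟶ S) {r : ℕ} (D : Fin r → X.IdealSheafData)

include f in
theorem isEffCartierIdeal (hD : LogNCD.IsNCD D f) (j : Fin r) : BlowUp.IsEffCartierIdeal (D j) := by
  intro x
  obtain ⟨O, hxO, hO⟩ := Chart.exists_eqn f D hD x j
  obtain ⟨V, U, hxV, hxU, -, hUO, e⟩ :=
    Comap.exists_affine_le_preimage f x hxO (show f x ∈ (⊤ : S.Opens) from trivial)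
  obtain ⟨a, ha, hreg, -⟩ := hO U hUO V e
  exact ⟨U, hxU, a, hreg, ha⟩

theorem flat_component (hD : LogNCD.IsNCD D f) (j : Fin r) : Flat ((D j).subschemeι ≫ f) := by
  refine (HasRingHomProperty.iff_exists_appLE (P := @Flat)
    (RingHom.Flat.stableUnderComposition.stableUnderCompositionWithLocalizationAway
      RingHom.Flat.holdsForLocalizationAway).1).2 fun z => ?_
  obtain ⟨O, hxO, hO⟩ := Chart.exists_eqn f D hD ((D j).subschemeι z) j
  obtain ⟨V, U, hxV, hxU, -, hUO, e⟩ := Comap.exists_affine_le_preimage f ((D j).subschemeι z) hxO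
    (show f ((D j).subschemeι z) ∈ (⊤ : S.Opens) from trivial)
  refine ⟨V, ⟨(D j).subschemeι ⁻¹ᵁ U.1, U.2.preimage _⟩, hxU, fun y hy => e hy, ?_⟩
  refine (Lib.RelDiv.Cartier.appLE_subscheme f (D j) RingHom.Flat.respectsIso V.1 U e).2 ?_
  obtain ⟨a, ha, -, hfl⟩ := hO U hUO V e
  rw [ha]
  exact hfl

end Divisor

section Reduction

variable {Λ Λ₀ : Type u} [CommRing Λ] [CommRing Λ₀] (red : Λ →+* Λ₀) {q : Λ}
  {T T₀ : Scheme.{u}} {gT : T ⟶ Spec (CommRingCat.of Λ)} {k : T₀ ⟶ T}
  {f₀ : T₀ ⟶ Spec (CommRingCat.of Λ₀)}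

theorem isClosedImmersion_of_isPullback (hred : Function.Surjective red)
    (hpb : IsPullback k f₀ gT (Spec.map (CommRingCat.ofHom red))) : IsClosedImmersion k :=
  MorphismProperty.of_isPullback hpb.flip (IsClosedImmersion.spec_of_surjective _ hred)

theorem ideal_ker_of_isPullback (hred : Function.Surjective red)
    (hker : RingHom.ker red = Ideal.span {q})
    (hpb : IsPullback k f₀ gT (Spec.map (CommRingCat.ofHom red))) (U : T.affineOpens) :
    k.ker.ideal U = Ideal.span {homU gT U.1 q} := by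
  haveI : IsClosedImmersion (Spec.map (CommRingCat.ofHom red)) :=
    IsClosedImmersion.spec_of_surjective _ hred
  have h1 : k.ker = (Spec.map (CommRingCat.ofHom red)).ker.comap gT := by
    rw [← hpb.isoPullback_hom_fst, Scheme.Hom.ker_comp_of_isIso,
      Scheme.IdealSheafData.ker_fst_of_isClosedImmersion]
  let e := (RingHom.quotientKerEquivOfSurjective hred).toCommRingCatIso
  have h2 : Spec.map (CommRingCat.ofHom red) =
      Spec.map e.hom ≫ Spec.map (CommRingCat.ofHom (Ideal.Quotient.mk (RingHom.ker red))) := by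
    rw [← Spec.map_comp]
    rfl
  rw [h1, h2, Scheme.Hom.ker_comp_of_isIso, ideal_comap_ker, hker, Ideal.map_span, Set.image_singleton]

theorem ker_app_of_isPullback (hred : Function.Surjective red)
    (hker : RingHom.ker red = Ideal.span {q})
    (hpb : IsPullback k f₀ gT (Spec.map (CommRingCat.ofHom red))) (U : T.affineOpens) :
    RingHom.ker (k.app U.1).hom = Ideal.span {homU gT U.1 q} := by
  haveI := isClosedImmersion_of_isPullback red hred hpb
  rw [← Scheme.Hom.ker_apply, ideal_ker_of_isPullback red hred hker hpb U]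

theorem surjective_of_isPullback (hred : Function.Surjective red)
    (hker : RingHom.ker red = Ideal.span {q}) (hq : IsNilpotent q)
    (hpb : IsPullback k f₀ gT (Spec.map (CommRingCat.ofHom red))) : Function.Surjective k := by
  haveI := isClosedImmersion_of_isPullback red hred hpb
  intro x
  suffices x ∈ (k.ker.support : Set T) by
    rwa [Scheme.Hom.support_ker, k.isClosedEmbedding.isClosed_range.closure_eq] at this
  obtain ⟨U, hU, hxU, -⟩ := exists_isAffineOpen_mem_and_subset (show x ∈ (⊤ : T.Opens) from trivial)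
  refine (Scheme.IdealSheafData.mem_supportSet_iff_of_mem (U := ⟨U, hU⟩) hxU).mpr ?_
  rw [ideal_ker_of_isPullback red hred hker hpb ⟨U, hU⟩, Scheme.zeroLocus_span]
  rw [Scheme.mem_zeroLocus_iff]
  rintro _ rfl hxb
  obtain ⟨n, hn⟩ := hq.map (homU gT U)
  have h1 := (T.mem_basicOpen _ x hxU).1 hxb
  have h0 : IsNilpotent (T.presheaf.germ U x hxU (homU gT U q)) := ⟨n, by rw [← map_pow, hn, map_zero]⟩
  exact h0.not_isUnit h1

theorem flat_homU [Flat gT] (U : T.affineOpens) : (homU gT U.1).Flat :=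
  (RingHom.Flat.of_bijective (ConcreteCategory.bijective_of_isIso
    (Scheme.ΓSpecIso (CommRingCat.of Λ)).inv)).comp
    (gT.flat_appLE (isAffineOpen_top _) U.2 le_top)

theorem exists_eq_mul [Flat gT] (hann : ∀ a, q * a = 0 → ∃ b, a = q * b) (U : T.affineOpens)
    (a : Γ(T, U.1)) (ha : homU gT U.1 q * a = 0) : a ∈ Ideal.span {homU gT U.1 q} := by
  letI := (homU gT U.1).toAlgebra
  haveI : Module.Flat Λ Γ(T, U.1) := flat_homU U
  obtain ⟨y, hy⟩ := Lift.exists_eq_smul_of_smul_eq_zero hann (x := a)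
    (by rw [Algebra.smul_def]; exact ha)
  exact Ideal.mem_span_singleton'.2 ⟨y, by rw [hy, Algebra.smul_def, mul_comm]; rfl⟩

theorem homU_comp {T' : Scheme.{u}} (g : T' ⟶ T) (U : T.affineOpens) (U' : T'.affineOpens)
    (e : U'.1 ≤ g ⁻¹ᵁ U.1) :
    homU (g ≫ gT) U'.1 = (g.appLE U.1 U'.1 e).hom.comp (homU gT U.1) := by
  have h2 : Spec.map (CommRingCat.ofHom (homU (g ≫ gT) U'.1)) =
      Spec.map (CommRingCat.ofHom ((g.appLE U.1 U'.1 e).hom.comp (homU gT U.1))) := by
    rw [specMap_homU, CommRingCat.ofHom_comp, Spec.map_comp, specMap_homU, CommRingCat.ofHom_hom,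
      ← Category.assoc (U'.2.fromSpec)]
    exact ((Category.assoc _ _ _).symm.trans ((IsAffineOpen.SpecMap_appLE_fromSpec g U.2 U'.2 e) =≫ gT)).symm
  exact congrArg CommRingCat.Hom.hom (Spec.map_injective h2)

variable {S : Scheme.{u}} {g : T ⟶ S} {gS : S ⟶ Spec (CommRingCat.of Λ)}
  {S₀ : Scheme.{u}} {iS : S₀ ⟶ S} {fS : S₀ ⟶ Spec (CommRingCat.of Λ₀)} {f : T₀ ⟶ S₀}

/-- The main equivalence. -/
theorem flat_iff_isInvertible (hred : Function.Surjective red) (hker : RingHom.ker red = Ideal.span {q})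
    (hq2 : q * q = 0) (hann : ∀ a, q * a = 0 → ∃ b, a = q * b)
    (hS : IsPullback iS fS gS (Spec.map (CommRingCat.ofHom red))) (hX : IsPullback k f g iS)
    [Flat g] [Flat gS] (J : T.IdealSheafData)
    (hcart : BlowUp.IsEffCartierIdeal (J.comap k)) (hfl : Flat ((J.comap k).subschemeι ≫ f)) :
    Flat (J.subschemeι ≫ g) ↔ PicF.IsInvertible (ClSub.idealMod J) := by
  have hpb : IsPullback k (f ≫ fS) (g ≫ gS) (Spec.map (CommRingCat.ofHom red)) := hX.paste_vert hS
  haveI := isClosedImmersion_of_isPullback red hred hpb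
  haveI := isClosedImmersion_of_isPullback red hred hS
  constructor
  · intro hflat
    refine Lib.ClSub.Cartier.isInvertible_idealMod fun x => ?_
    obtain ⟨x₀, rfl⟩ := surjective_of_isPullback red hred hker ⟨2, by rw [pow_two, hq2]⟩ hpb x
    obtain ⟨U₀, hxU₀, a₀, ha₀, he₀⟩ := hcart x₀
    obtain ⟨O, hO, hOU⟩ := k.isClosedEmbedding.isInducing.isOpen_iff.1 U₀.1.isOpen
    have hxO : k x₀ ∈ (⟨O, hO⟩ : T.Opens) := show x₀ ∈ k ⁻¹' O by rw [hOU]; exact hxU₀
    obtain ⟨V, U, -, hxU, -, hUO, e⟩ :=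
      Comap.exists_affine_le_preimage g (k x₀) hxO (show g (k x₀) ∈ (⊤ : S.Opens) from trivial)
    let U' : T₀.affineOpens := ⟨k ⁻¹ᵁ U.1, U.2.preimage k⟩
    have hle : U'.1 ≤ U₀.1 := fun y hy => show y ∈ (U₀.1 : Set T₀) by rw [← hOU]; exact hUO hy
    have hd₀ := EffCartier.res_mem_nonZeroDivisors U₀.2 hle ha₀
    have he := EffCartier.ideal_eq_span_of_le hle he₀
    rw [Comap.ideal_comap k J U U' le_rfl, ← Scheme.Hom.app_eq_appLE] at he
    have hk := ker_app_of_isPullback red hred hker hpb U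
    have hp2 : homU (g ≫ gS) U.1 q * homU (g ≫ gS) U.1 q = 0 := by rw [← map_mul, hq2, map_zero]
    have hflA : ((Ideal.Quotient.mk (J.ideal U)).comp (homU (g ≫ gS) U.1)).Flat := by
      rw [homU_comp g V U e, ← RingHom.comp_assoc]
      refine (flat_homU V).comp ?_
      exact (Lib.RelDiv.Cartier.appLE_subscheme g J RingHom.Flat.respectsIso V.1 U e).1
        ((J.subschemeι ≫ g).flat_appLE V.2 (U.2.preimage J.subschemeι) fun y hy => e hy)
    obtain ⟨d, hd, hJd⟩ := Lift.exists_span_eq (k.app U.1).hom hk (k.app_surjective U.1 U.2)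
      (exists_eq_mul hann U) hp2 (J.ideal U) (fun a ha => by
        letI := ((Ideal.Quotient.mk (J.ideal U)).comp (homU (g ≫ gS) U.1)).toAlgebra
        haveI : Module.Flat Λ (Γ(T, U.1) ⧸ J.ideal U) := hflA
        obtain ⟨y, hy⟩ := Lift.exists_eq_smul_of_smul_eq_zero hann
          (x := Ideal.Quotient.mk (J.ideal U) a) (by
            rw [Algebra.smul_def]
            exact (map_mul _ _ _).symm.trans (Ideal.Quotient.eq_zero_iff_mem.2 ha))
        obtain ⟨b, rfl⟩ := Ideal.Quotient.mk_surjective y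
        rw [Algebra.smul_def] at hy
        refine ⟨a - homU (g ≫ gS) U.1 q * b, ?_, b, (sub_add_cancel _ _).symm⟩
        rw [← Ideal.Quotient.eq_zero_iff_mem, map_sub, sub_eq_zero, map_mul]
        exact hy) hd₀ he
    exact ⟨U, hxU, d, hd, hJd⟩
  · intro hinv
    have hJ := Invert.isEffCartierIdeal hinv
    refine (HasRingHomProperty.iff_exists_appLE (P := @Flat)
      (RingHom.Flat.stableUnderComposition.stableUnderCompositionWithLocalizationAway
      RingHom.Flat.holdsForLocalizationAway).1).2 fun z => ?_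
    obtain ⟨W, hxW, -, d₀, hd₀, he₀⟩ := EffCartier.exists_gen hJ (J.subschemeι z) (W := ⊤) trivial
    obtain ⟨V, U, -, hxU, -, hUW, e⟩ := Comap.exists_affine_le_preimage g (J.subschemeι z) hxW
      (show g (J.subschemeι z) ∈ (⊤ : S.Opens) from trivial)
    refine ⟨V, ⟨J.subschemeι ⁻¹ᵁ U.1, U.2.preimage _⟩, hxU, fun y hy => e hy, ?_⟩
    refine (Lib.RelDiv.Cartier.appLE_subscheme g J RingHom.Flat.respectsIso V.1 U e).2 ?_
    have he := EffCartier.ideal_eq_span_of_le hUW he₀
    rw [he]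
    let U' : T₀.affineOpens := ⟨k ⁻¹ᵁ U.1, U.2.preimage k⟩
    let V' : S₀.affineOpens := ⟨iS ⁻¹ᵁ V.1, V.2.preimage iS⟩
    have e' : U'.1 ≤ f ⁻¹ᵁ V'.1 := fun y hy => by
      show iS (f y) ∈ V.1
      rw [← Scheme.Hom.comp_apply, ← hX.w, Scheme.Hom.comp_apply]
      exact e hy
    have he' : (J.comap k).ideal U' = Ideal.span {(k.app U.1).hom (T.presheaf.map (homOfLE hUW).op d₀)} := by
      rw [Comap.ideal_comap k J U U' le_rfl, ← Scheme.Hom.app_eq_appLE, he, Ideal.map_span,
        Set.image_singleton]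
    have hcomm : (k.app U.1).hom.comp (g.appLE V.1 U.1 e).hom =
        (f.appLE V'.1 U'.1 e').hom.comp (iS.app V.1).hom := by
      have h1 : g.appLE V.1 U.1 e ≫ k.app U.1 = iS.app V.1 ≫ f.appLE V'.1 U'.1 e' := by
        rw [Scheme.Hom.app_eq_appLE, Scheme.Hom.app_eq_appLE, Scheme.Hom.appLE_comp_appLE,
          Scheme.Hom.appLE_comp_appLE]
        simp only [hX.w]
        rfl
      exact congrArg CommRingCat.Hom.hom h1
    refine Lift.flat_quotient (p := homU (g ≫ gS) U.1 q) (k.app U.1).hom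
      (q := homU gS V.1 q) (by rw [← map_mul, hq2, map_zero]) (iS.app V.1).hom
      (iS.app_surjective V.1 V.2) (ker_app_of_isPullback red hred hker hS V)
      (g.appLE V.1 U.1 e).hom (by rw [homU_comp g V U e]; rfl) (f.appLE V'.1 U'.1 e').hom hcomm
      (k.app_surjective U.1 U.2) (ker_app_of_isPullback red hred hker hpb U)
      (exists_eq_mul hann U) (Lib.BlowUpExists.gen_mem_nonZeroDivisors hcart he') ?_
    rw [← he']
    exact (Lib.RelDiv.Cartier.appLE_subscheme f (J.comap k) RingHom.Flat.respectsIso V'.1 U' e').1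
      (((J.comap k).subschemeι ≫ f).flat_appLE V'.2 (U'.2.preimage _) fun y hy => e' hy)

end Reduction

end Groth.Agent.H25.DivLift.Main
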